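import Groth.Agent.FittX.Strict
import Mathlib.RingTheory.Localization.Away.Basic
import Mathlib.LinearAlgebra.TensorProduct.RightExactness

/-!
# Finitely presented approximations of modules which are locally free on a basic open
-/

set_option autoImplicit false

universe u

open Module TensorProduct

namespace Groth.Agent.FittX

variable {R : Type u} [CommRing R] {M : Type u} [AddCommGroup M] [Module R M]

/-- A surjection whose kernel is killed by powers of `f` is bijective after inverting any element of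
`√(f)`. -/
theorem nonempty_localized_equiv {N : Type u} [AddCommGroup N] [Module R N] (φ : N →ₗ[R] M)
    (hφ : Function.Surjective φ) {f g : R} (hker : ∀ z, φ z = 0 → ∃ n : ℕ, f ^ n • z = 0)
    (hg : g ∈ (Ideal.span {f}).radical) :
    Nonempty (LocalizedModule (Submonoid.powers g) N ≃ₗ[Localization.Away g]
      LocalizedModule (Submonoid.powers g) M) := by
  obtain ⟨l, hl⟩ := hg
  obtain ⟨c, hc⟩ := Ideal.mem_span_singleton'.1 hl
  refine ⟨LinearEquiv.ofBijective (LocalizedModule.map (Submonoid.powers g) φ)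
    ⟨(injective_iff_map_eq_zero _).2 fun y hy => ?_,
      LocalizedModule.map_surjective (Submonoid.powers g) φ hφ⟩⟩
  induction y using LocalizedModule.induction_on with
  | h m s =>
    rw [LocalizedModule.map_mk, IsLocalizedModule.mk_eq_mk', IsLocalizedModule.mk'_eq_zero'] at hy
    obtain ⟨⟨_, i, rfl⟩, hi⟩ := hy
    obtain ⟨n, hn⟩ := hker (g ^ i • m) (by rw [map_smul]; exact hi)
    rw [IsLocalizedModule.mk_eq_mk', IsLocalizedModule.mk'_eq_zero']
    refine ⟨⟨g ^ (l * n + i), _, rfl⟩, ?_⟩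
    show g ^ (l * n + i) • m = 0
    rw [pow_add, mul_smul, pow_mul, ← hc, mul_pow, mul_smul, hn, smul_zero]

theorem free_of_equiv_away {N : Type u} [AddCommGroup N] [Module R N] (e : M ≃ₗ[R] N) (g : R) (r : ℕ)
    (h : Module.Free (Localization.Away g) (LocalizedModule (Submonoid.powers g) M) ∧
      Module.finrank (Localization.Away g) (LocalizedModule (Submonoid.powers g) M) = r) :
    Module.Free (Localization.Away g) (LocalizedModule (Submonoid.powers g) N) ∧
      Module.finrank (Localization.Away g) (LocalizedModule (Submonoid.powers g) N) = r := by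
  let j := LocalizedModule.mkLinearMap (Submonoid.powers g) N ∘ₗ (e : M →ₗ[R] N)
  haveI : IsLocalizedModule (Submonoid.powers g) j :=
    IsLocalizedModule.of_linearEquiv_right (Submonoid.powers g) _ e
  let e' := (IsLocalizedModule.linearEquiv (Submonoid.powers g)
    (LocalizedModule.mkLinearMap (Submonoid.powers g) M) j).extendScalarsOfIsLocalization
      (Submonoid.powers g) (Localization.Away g)
  haveI := h.1
  exact ⟨Module.Free.of_equiv e', e'.finrank_eq ▸ h.2⟩

theorem exists_fp_approx [Module.Finite R M] (f : R)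
    (hf : ∀ (p : Ideal R) [p.IsPrime], f ∉ p → ∃ g : R, g ∉ p ∧
      Module.Free (Localization.Away g) (LocalizedModule (Submonoid.powers g) M)) :
    ∃ (n : ℕ) (K₀ : Submodule R (Fin n → R)) (φ : ((Fin n → R) ⧸ K₀) →ₗ[R] M),
      K₀.FG ∧ Function.Surjective φ ∧ ∀ z, φ z = 0 → ∃ i : ℕ, f ^ i • z = 0 := by
  classical
  obtain ⟨n, x, hx⟩ := exists_gen R M
  let π : (Fin n → R) →ₗ[R] M := Fintype.linearCombination R x
  have hπ : Function.Surjective π := by
    rw [← LinearMap.range_eq_top, Fintype.range_linearCombination, hx]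
  let G : Set R := {g | Module.Free (Localization.Away g) (LocalizedModule (Submonoid.powers g) M)}
  have hG : f ∈ (Ideal.span G).radical := by
    rw [Ideal.radical_eq_sInf, Ideal.mem_sInf]
    rintro p ⟨hle, hp⟩
    by_contra hfp
    obtain ⟨g, hg, hfree⟩ := @hf p hp hfp
    exact hg (hle (Ideal.subset_span hfree))
  obtain ⟨m, hm⟩ := hG
  obtain ⟨t, htG, hmt⟩ := Submodule.mem_span_finite_of_mem_span hm
  have hfin : ∀ g ∈ G, ∃ F : Submodule R (Fin n → R), F.FG ∧ F ≤ LinearMap.ker π ∧
      ∀ z, π z = 0 → ∃ i : ℕ, g ^ i • z ∈ F := by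
    intro g hg
    let S := Submonoid.powers g
    haveI : Module.Free (Localization.Away g) (LocalizedModule S M) := hg
    haveI : Module.Finite (Localization.Away g) (LocalizedModule S M) :=
      Module.Finite.of_isLocalizedModule S (LocalizedModule.mkLinearMap S M)
    haveI : Module.Finite (Localization.Away g) (LocalizedModule S (Fin n → R)) :=
      Module.Finite.of_isLocalizedModule S (LocalizedModule.mkLinearMap S _)
    haveI := Module.finitePresentation_of_projective (Localization.Away g) (LocalizedModule S M)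
    obtain ⟨Y, hY⟩ := Module.FinitePresentation.fg_ker (LocalizedModule.map S π)
      (LocalizedModule.map_surjective S π hπ)
    have hy : ∀ y : Y, ∃ (k : Fin n → R) (s : S), π k = 0 ∧
        IsLocalizedModule.mk' (LocalizedModule.mkLinearMap S (Fin n → R)) k s = y.1 := by
      rintro ⟨y, hyY⟩
      have h0 : LocalizedModule.map S π y = 0 := by
        rw [← LinearMap.mem_ker, ← hY]; exact Submodule.subset_span hyY
      induction y using LocalizedModule.induction_on with
      | h k s =>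
        rw [LocalizedModule.map_mk, IsLocalizedModule.mk_eq_mk', IsLocalizedModule.mk'_eq_zero'] at h0
        obtain ⟨w, hw⟩ := h0
        refine ⟨(w : R) • k, w * s, by rw [map_smul]; exact hw, ?_⟩
        show _ = LocalizedModule.mk k s
        rw [IsLocalizedModule.mk_eq_mk']
        exact IsLocalizedModule.mk'_cancel_left _ k w s
    choose k s hk hks using hy
    refine ⟨Submodule.span R (Set.range k), Submodule.fg_span (Set.finite_range k),
      Submodule.span_le.2 (by rintro _ ⟨y, rfl⟩; exact hk y), fun z hz => ?_⟩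
    have hmem : LocalizedModule.mkLinearMap S (Fin n → R) z ∈
        (Submodule.span R (Set.range k)).localized' (Localization.Away g) S
          (LocalizedModule.mkLinearMap S (Fin n → R)) := by
      have h1 : LocalizedModule.mkLinearMap S (Fin n → R) z ∈ LinearMap.ker (LocalizedModule.map S π) := by
        rw [LinearMap.mem_ker, LocalizedModule.mkLinearMap_apply, LocalizedModule.map_mk, hz,
          LocalizedModule.zero_mk]
      rw [← hY] at h1
      refine Submodule.span_le.2 (fun y hy => ?_) h1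
      exact ⟨k ⟨y, hy⟩, Submodule.subset_span ⟨_, rfl⟩, s ⟨y, hy⟩, hks ⟨y, hy⟩⟩
    obtain ⟨w, hw, v, hv⟩ := hmem
    rw [IsLocalizedModule.mk'_eq_iff, Submonoid.smul_def, ← map_smul] at hv
    obtain ⟨⟨_, i, rfl⟩, hi⟩ := (IsLocalizedModule.eq_iff_exists S (LocalizedModule.mkLinearMap S (Fin n → R))).1 hv
    obtain ⟨_, j, rfl⟩ := v
    refine ⟨i + j, ?_⟩
    rw [pow_add, mul_smul]
    exact (show g ^ i • (g ^ j • z) = g ^ i • w from hi.symm) ▸ Submodule.smul_mem _ _ hw
  choose F hFfg hFle hF using fun g : {g // g ∈ t} => hfin g.1 (htG g.2)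
  let K₀ : Submodule R (Fin n → R) := ⨆ g, F g
  have hK₀ : K₀ ≤ LinearMap.ker π := iSup_le hFle
  refine ⟨n, K₀, K₀.liftQ π hK₀, Submodule.fg_iSup _ hFfg, fun y => ?_, fun z hz => ?_⟩
  · obtain ⟨z, rfl⟩ := hπ y
    exact ⟨Submodule.Quotient.mk z, rfl⟩
  · obtain ⟨z, rfl⟩ := Submodule.Quotient.mk_surjective K₀ z
    let A : Ideal R := LinearMap.ker (LinearMap.toSpanSingleton R _ (Submodule.Quotient.mk (p := K₀) z))
    have hA : Ideal.span (t : Set R) ≤ A.radical := Ideal.span_le.2 fun g hg => by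
      obtain ⟨i, hi⟩ := hF ⟨g, hg⟩ z hz
      exact ⟨i, LinearMap.mem_ker.2 ((Submodule.Quotient.mk_eq_zero K₀).2 (le_iSup F ⟨g, hg⟩ hi))⟩
    obtain ⟨l, hl⟩ := hA hmt
    exact ⟨m * l, by rw [pow_mul]; exact hl⟩

/-- The Fitting ideals of `(R/f)^(r+1)` below `r + 1` lie in `(f)`. -/
theorem ideal_pi_quotient_le (f : R) (r : ℕ) :
    Fitt.ideal R (Fin (r + 1) → R ⧸ Ideal.span {f}) r ≤ Ideal.span {f} := by
  classical
  let x : Fin (r + 1) → (Fin (r + 1) → R ⧸ Ideal.span {f}) := fun j => Pi.single j 1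
  have hlin : ∀ v : Fin (r + 1) → R, ∑ j, v j • x j = fun j => Ideal.Quotient.mk (Ideal.span {f}) (v j) :=
    fun v => funext fun i => by
      simp [x, Finset.sum_apply, Pi.single_apply, Algebra.smul_def]
  have hx : Submodule.span R (Set.range x) = ⊤ := by
    refine eq_top_iff.2 fun y _ => ?_
    choose v hv using fun j => Ideal.Quotient.mk_surjective (y j)
    rw [Submodule.mem_span_range_iff_exists_fun]
    exact ⟨v, (hlin v).trans (funext hv)⟩
  rw [ideal_eq_minors x hx, minors_rel_eq_span, Ideal.span_le]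
  rintro d ⟨z, e, hz, rfl⟩
  rw [SetLike.mem_coe, ← Ideal.Quotient.eq_zero_iff_mem, cminor, RingHom.map_det]
  haveI : Nonempty (Fin (r + 1 - r)) := ⟨⟨0, by omega⟩⟩
  refine (congrArg Matrix.det (?_ : _ = (0 : Matrix (Fin (r + 1 - r)) (Fin (r + 1 - r)) (R ⧸ Ideal.span {f})))).trans
    Matrix.det_zero
  ext b a
  have := congrFun ((hlin (z b)).symm.trans (mem_rel.1 (hz b))) (e a)
  exact this

/-- The approximation with its `r`-th Fitting ideal inside `√(f)`. -/
theorem exists_approx [Module.Finite R M] (f : R) (r : ℕ)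
    (hf : ∀ (p : Ideal R) [p.IsPrime], f ∉ p → ∃ g : R, g ∉ p ∧ g ∈ (Ideal.span {f}).radical ∧
      Module.Free (Localization.Away g) (LocalizedModule (Submonoid.powers g) M) ∧
        Module.finrank (Localization.Away g) (LocalizedModule (Submonoid.powers g) M) = r) :
    ∃ (N : Type u) (_ : AddCommGroup N) (_ : Module R N) (_ : Module.FinitePresentation R N)
      (φ : N →ₗ[R] M), Function.Surjective φ ∧ (∀ z, φ z = 0 → ∃ i : ℕ, f ^ i • z = 0) ∧
        (Fitt.ideal R N r).radical = (Ideal.span {f}).radical := by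
  obtain ⟨n, K₀, φ₀, hK₀, hsurj, hker⟩ := exists_fp_approx f fun p hp hfp =>
    let ⟨g, hg, _, hfree, _⟩ := hf p hfp
    ⟨g, hg, hfree⟩
  haveI : Module.FinitePresentation R ((Fin n → R) ⧸ K₀) :=
    Module.finitePresentation_of_surjective K₀.mkQ (Submodule.mkQ_surjective K₀)
      (by rw [Submodule.ker_mkQ]; exact hK₀)
  haveI : Module.FinitePresentation R (R ⧸ Ideal.span {f}) :=
    Module.finitePresentation_of_surjective (Ideal.span {f}).mkQ (Submodule.mkQ_surjective _)
      (by rw [Submodule.ker_mkQ]; exact Submodule.fg_span_singleton f)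
  let N := ((Fin n → R) ⧸ K₀) × (Fin (r + 1) → R ⧸ Ideal.span {f})
  let φ : N →ₗ[R] M := φ₀ ∘ₗ LinearMap.fst R _ _
  have hφ : Function.Surjective φ := fun y => let ⟨z, hz⟩ := hsurj y; ⟨(z, 0), hz⟩
  have hkerφ : ∀ z, φ z = 0 → ∃ i : ℕ, f ^ i • z = 0 := fun z hz => by
    obtain ⟨i, hi⟩ := hker z.1 hz
    refine ⟨i + 1, Prod.ext ?_ (funext fun j => ?_)⟩
    · show f ^ (i + 1) • z.1 = 0
      rw [pow_succ', mul_smul, hi, smul_zero]
    · show f ^ (i + 1) • z.2 j = 0
      obtain ⟨w, hw⟩ := Ideal.Quotient.mk_surjective (z.2 j)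
      rw [← hw, Algebra.smul_def]
      refine (map_mul (Ideal.Quotient.mk (Ideal.span {f})) _ _).symm.trans (Ideal.Quotient.eq_zero_iff_mem.2 ?_)
      exact Ideal.mul_mem_right _ _ (Ideal.mem_span_singleton.2 ⟨f ^ i, pow_succ' f i⟩)
  refine ⟨N, inferInstance, inferInstance, inferInstance, φ, hφ, hkerφ, le_antisymm ?_ ?_⟩
  · refine Ideal.radical_mono ((ideal_le_of_surjective (M := N) (LinearMap.snd R _ _) ?_ r).trans (ideal_pi_quotient_le f r))
    exact fun y => ⟨(0, y), rfl⟩
  · rw [Ideal.radical_le_radical_iff, Ideal.span_singleton_le_iff_mem, Ideal.radical_eq_sInf, Ideal.mem_sInf]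
    rintro p ⟨hle, hp⟩
    by_contra hfp
    obtain ⟨g, hg, hgf, hfree, hrk⟩ := @hf p hp hfp
    obtain ⟨e⟩ := nonempty_localized_equiv φ hφ hkerφ hgf
    haveI : Module.Finite (Localization.Away g) (LocalizedModule (Submonoid.powers g) M) :=
      Module.Finite.of_isLocalizedModule (Submonoid.powers g) (LocalizedModule.mkLinearMap (Submonoid.powers g) M)
    haveI : Nontrivial (Localization.Away g) :=
      (IsLocalization.isPrime_of_isPrime_disjoint (Submonoid.powers g) (Localization.Away g) p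
        hp (by rwa [Ideal.disjoint_powers_iff_notMem _ hp.isRadical])).ne_top
          |> fun h => (not_subsingleton_iff_nontrivial.1 fun _ => h (Subsingleton.elim _ _))
    let b := ((Module.finBasis (Localization.Away g) (LocalizedModule (Submonoid.powers g) M)).reindex
      (finCongr hrk)).map e.symm
    exact (not_le_iff_away N r p).2 ⟨g, hg, b, b.span_eq⟩ hle

/-- Strict transforms of a surjection with kernel killed by powers of `f`. -/
theorem nonempty_strict_equiv {N : Type u} [AddCommGroup N] [Module R N] (φ : N →ₗ[R] M)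
    (hφ : Function.Surjective φ) {f a : R} (hker : ∀ z, φ z = 0 → ∃ n : ℕ, f ^ n • z = 0)
    (ha : a ∈ (Ideal.span {f}).radical) (R₁ : Type u) [CommRing R₁] [Algebra R R₁] :
    Nonempty (((R₁ ⊗[R] N) ⧸ FlatCA.powTorsion R₁ (algebraMap R R₁ a) (R₁ ⊗[R] N)) ≃ₗ[R₁]
      ((R₁ ⊗[R] M) ⧸ FlatCA.powTorsion R₁ (algebraMap R R₁ a) (R₁ ⊗[R] M))) := by
  obtain ⟨l, hl⟩ := ha
  obtain ⟨c, hc⟩ := Ideal.mem_span_singleton'.1 hl
  set a₁ := algebraMap R R₁ a
  let φ₁ : R₁ ⊗[R] N →ₗ[R₁] R₁ ⊗[R] M := φ.baseChange R₁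
  have hφ₁ : Function.Surjective φ₁ := LinearMap.lTensor_surjective R₁ hφ
  have hkill : ∀ z, φ₁ z = 0 → ∃ i : ℕ, a₁ ^ i • z = 0 := by
    intro z hz
    obtain ⟨w, rfl⟩ := (lTensor_exact R₁ (LinearMap.exact_subtype_ker_map φ) hφ z).1 hz
    clear hz
    induction w using TensorProduct.induction_on with
    | zero => exact ⟨0, by simp⟩
    | tmul s y =>
      obtain ⟨i, hi⟩ := hker y.1 y.2
      refine ⟨l * i, ?_⟩
      rw [LinearMap.lTensor_tmul, ← map_pow, algebraMap_smul, ← TensorProduct.tmul_smul, Submodule.subtype_apply,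
        pow_mul, ← hc, mul_pow, mul_smul, hi, smul_zero, TensorProduct.tmul_zero]
    | add u v hu hv =>
      obtain ⟨i, hi⟩ := hu
      obtain ⟨j, hj⟩ := hv
      refine ⟨i + j, ?_⟩
      rw [map_add, smul_add, pow_add, mul_smul (a₁ ^ i) (a₁ ^ j) (LinearMap.lTensor R₁ _ v), hj, smul_zero,
        add_zero, mul_comm, mul_smul, hi, smul_zero]
  let T := FlatCA.powTorsion R₁ a₁ (R₁ ⊗[R] M)
  refine ⟨(Submodule.quotEquivOfEq _ (LinearMap.ker (T.mkQ ∘ₗ φ₁)) ?_).trans
    ((T.mkQ ∘ₗ φ₁).quotKerEquivOfSurjective ((Submodule.mkQ_surjective T).comp hφ₁))⟩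
  ext z
  rw [LinearMap.mem_ker, LinearMap.comp_apply, Submodule.mkQ_apply, Submodule.Quotient.mk_eq_zero,
    mem_powTorsion, mem_powTorsion]
  constructor
  · rintro ⟨i, hi⟩
    exact ⟨i, by rw [← map_smul, hi, map_zero]⟩
  · rintro ⟨i, hi⟩
    obtain ⟨j, hj⟩ := hkill _ ((map_smul φ₁ (a₁ ^ i) z).trans hi)
    exact ⟨j + i, by rw [pow_add, mul_smul]; exact hj⟩

end Groth.Agent.FittX
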