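import Groth.Agent.FittX.PdOne
import Groth.Agent.BlowUpLib.Chart
import Groth.Prelude.Def_BlowUp2
import Groth.Prelude.Def_FlatCA
import Mathlib.RingTheory.Spectrum.Prime.Topology
import Mathlib.RingTheory.Finiteness.Cardinality

/-!
# Fitting ideals and strict transforms

If the `k`-th Fitting ideal of `M` is generated by `f`, then `M` modulo `f`-power torsion is locally
generated by `k` elements, and it is locally free of rank `k` when `f` is a non-zero-divisor and the
`(k-1)`-st Fitting ideal vanishes.
-/

set_option autoImplicit false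

universe u

open Module TensorProduct

namespace Groth.Agent.FittX

variable {R : Type u} [CommRing R] {M : Type u} [AddCommGroup M] [Module R M]

theorem mem_powTorsion {f : R} {x : M} : x ∈ FlatCA.powTorsion R f M ↔ ∃ n : ℕ, f ^ n • x = 0 := by
  have hd : Directed (· ≤ ·) fun n : ℕ => Submodule.torsionBy R M (f ^ n) := by
    refine Monotone.directed_le fun i j hij y hy => ?_
    rw [Submodule.mem_torsionBy_iff] at hy ⊢
    rw [← Nat.sub_add_cancel hij, pow_add, mul_smul, hy, smul_zero]
  unfold FlatCA.powTorsion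
  rw [Submodule.mem_iSup_of_directed _ hd]
  exact exists_congr fun n => Submodule.mem_torsionBy_iff _ _

theorem killed_of_locally {a x : R}
    (h : ∀ (p : Ideal R) [p.IsPrime], a ∉ p → ∃ s : R, s ∉ p ∧ s * x = 0) : ∃ n : ℕ, a ^ n * x = 0 := by
  let A : Ideal R := LinearMap.ker (LinearMap.mul R R x)
  have hA : ∀ s, s ∈ A ↔ s * x = 0 := fun s => by simp [A, mul_comm]
  have : a ∈ A.radical := by
    rw [Ideal.radical_eq_sInf, Ideal.mem_sInf]
    rintro p ⟨hle, hp⟩
    by_contra hap
    obtain ⟨s, hs, hsx⟩ := @h p hp hap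
    exact hs (hle ((hA s).2 hsx))
  obtain ⟨n, hn⟩ := this
  exact ⟨n, (hA _).1 hn⟩

/-- Modulo torsion the module is locally generated by `k` elements. -/
theorem ideal_quotient_powTorsion [Module.Finite R M] {k : ℕ} {f : R}
    (hf : Fitt.ideal R M k = Ideal.span {f}) :
    Fitt.ideal R (M ⧸ FlatCA.powTorsion R f M) k = ⊤ := by
  by_contra hne
  obtain ⟨p, hp, hle⟩ := Ideal.exists_le_maximal _ hne
  haveI := hp.isPrime
  let S := p.primeCompl
  let A := Localization.AtPrime p
  let j := LocalizedModule.mkLinearMap S M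
  have hbc := isBaseChange_mkLinearMap M S
  haveI : Module.Finite A (LocalizedModule S M) := Module.Finite.of_isLocalizedModule S j
  obtain ⟨g, hg⟩ := exists_gen_quotient (R := A) (M := LocalizedModule S M) k (algebraMap R A f) (by
    rw [show Fitt.ideal A (LocalizedModule S M) k = _ from ideal_baseChange hbc k, hf, Ideal.map_span,
      Set.image_singleton])
  set T := FlatCA.powTorsion R f M
  let q := LocalizedModule.map S T.mkQ
  have hq : LinearMap.ker (algebraMap R A f • (LinearMap.id : LocalizedModule S M →ₗ[A] LocalizedModule S M)) ≤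
      LinearMap.ker q := by
    intro y hy
    induction y using LocalizedModule.induction_on with
    | h m s =>
      rw [LinearMap.mem_ker, LinearMap.smul_apply, LinearMap.id_apply, algebraMap_smul,
        LocalizedModule.smul'_mk, IsLocalizedModule.mk_eq_mk', IsLocalizedModule.mk'_eq_zero'] at hy
      obtain ⟨t, htm⟩ := hy
      rw [LinearMap.mem_ker]
      show LocalizedModule.map S T.mkQ (LocalizedModule.mk m s) = 0
      rw [LocalizedModule.map_mk, IsLocalizedModule.mk_eq_mk', IsLocalizedModule.mk'_eq_zero']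
      refine ⟨t, ?_⟩
      show (t : R) • T.mkQ m = 0
      rw [← map_smul, Submodule.mkQ_apply, Submodule.Quotient.mk_eq_zero]
      refine mem_powTorsion.2 ⟨1, ?_⟩
      rw [pow_one, smul_comm]
      exact htm
  let ψ := (LinearMap.ker (algebraMap R A f • (LinearMap.id : LocalizedModule S M →ₗ[A] LocalizedModule S M))).liftQ q hq
  have hψ : Function.Surjective ψ := fun y => by
    obtain ⟨z, hz⟩ := LocalizedModule.map_surjective S T.mkQ (Submodule.mkQ_surjective T) y
    exact ⟨Submodule.Quotient.mk z, hz⟩
  refine (not_le_iff_atPrime (M ⧸ T) k p).2 ⟨ψ ∘ g, ?_⟩ hle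
  rw [Set.range_comp, Submodule.span_image, hg, Submodule.map_top, LinearMap.range_eq_top.2 hψ]

/-- The torsion is killed by one power, and the quotient is locally free. -/
theorem free_quotient_powTorsion [Module.Finite R M] {k : ℕ} {f : R} (hf0 : f ∈ nonZeroDivisors R)
    (hf : Fitt.ideal R M k = Ideal.span {f}) (hk : k = 0 ∨ Fitt.ideal R M (k - 1) = ⊥) :
    ∀ (p : Ideal R) [p.IsPrime], ∃ g : R, g ∉ p ∧
      Module.Free (Localization.Away g)
          (LocalizedModule (Submonoid.powers g) (M ⧸ FlatCA.powTorsion R f M)) ∧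
        Module.finrank (Localization.Away g)
          (LocalizedModule (Submonoid.powers g) (M ⧸ FlatCA.powTorsion R f M)) = k := by
  set T := LinearMap.ker (f • (LinearMap.id : M →ₗ[R] M)) with hT
  have hTP : FlatCA.powTorsion R f M = T := by
    haveI : Module.Projective R (M ⧸ T) := projective_of_free_away fun p hp => by
      obtain ⟨c, hc, ⟨b⟩⟩ := exists_basis_quotient hf0 hf hk p
      exact ⟨c, hc, Module.Free.of_basis b⟩
    ext y
    rw [mem_powTorsion, hT, LinearMap.mem_ker, LinearMap.smul_apply, LinearMap.id_apply]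
    refine ⟨fun ⟨j, hj⟩ => ?_, fun hy => ⟨1, by rw [pow_one]; exact hy⟩⟩
    obtain ⟨q, hq⟩ := Module.projective_def'.1 ‹Module.Projective R (M ⧸ T)›
    have hι : Function.Injective q :=
      Function.LeftInverse.injective (g := Finsupp.linearCombination R id) (fun y => LinearMap.congr_fun hq y)
    have h0 : q (T.mkQ y) = 0 := Finsupp.ext fun a => by
      have h := congrArg (fun v => v a) (show f ^ j • q (T.mkQ y) = 0 by
        rw [← map_smul, ← map_smul, hj, map_zero, map_zero])
      simp only [Finsupp.smul_apply, smul_eq_mul, Finsupp.coe_zero, Pi.zero_apply] at h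
      exact (mul_right_mem_nonZeroDivisors_eq_zero_iff (pow_mem hf0 j)).1 ((mul_comm _ _).trans h)
    have := (Submodule.Quotient.mk_eq_zero T).1 (hι (h0.trans (map_zero q).symm))
    rwa [hT, LinearMap.mem_ker, LinearMap.smul_apply, LinearMap.id_apply] at this
  rw [hTP]
  intro p hp
  obtain ⟨c, hc, ⟨b⟩⟩ := exists_basis_quotient hf0 hf hk p
  have : Nontrivial (Localization.Away c) :=
    (IsLocalization.isPrime_of_isPrime_disjoint (Submonoid.powers c) (Localization.Away c) p
      hp (by rwa [Ideal.disjoint_powers_iff_notMem _ hp.isRadical])).ne_top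
        |> fun h => (not_subsingleton_iff_nontrivial.1 fun _ => h (Subsingleton.elim _ _))
  exact ⟨c, hc, Module.Free.of_basis b, by rw [Module.finrank_eq_card_basis b, Fintype.card_fin]⟩

/-- Fitting ideals below the rank are killed by a power of an element off whose zero locus the
module is free. -/
theorem killed_of_free_away [Module.Finite R M] {k j : ℕ} {a : R} (hj : j < k)
    (h : ∀ (p : Ideal R) [p.IsPrime], a ∉ p → ∃ g : R, g ∉ p ∧
      Module.Free (Localization.Away g) (LocalizedModule (Submonoid.powers g) M) ∧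
        Module.finrank (Localization.Away g) (LocalizedModule (Submonoid.powers g) M) = k)
    {x : R} (hx : x ∈ Fitt.ideal R M j) : ∃ n : ℕ, a ^ n * x = 0 := by
  refine killed_of_locally fun p hp hap => ?_
  obtain ⟨g, hg, hfree, hrk⟩ := h p hap
  haveI : Module.Finite (Localization.Away g) (LocalizedModule (Submonoid.powers g) M) :=
    Module.Finite.of_isLocalizedModule (Submonoid.powers g) (LocalizedModule.mkLinearMap (Submonoid.powers g) M)
  haveI : Nontrivial (Localization.Away g) :=
    (IsLocalization.isPrime_of_isPrime_disjoint (Submonoid.powers g) (Localization.Away g) p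
      hp (by rwa [Ideal.disjoint_powers_iff_notMem _ hp.isRadical])).ne_top
        |> fun h => (not_subsingleton_iff_nontrivial.1 fun _ => h (Subsingleton.elim _ _))
  let b := (Module.finBasis (Localization.Away g) (LocalizedModule (Submonoid.powers g) M)).reindex (finCongr hrk)
  have h0 : algebraMap R (Localization.Away g) x = 0 := by
    rw [← Ideal.mem_bot, ← ideal_eq_bot_of_free (R := Localization.Away g) (M := LocalizedModule (Submonoid.powers g) M) j k b hj, ideal_map_away]
    exact Ideal.mem_map_of_mem _ hx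
  obtain ⟨⟨_, n, rfl⟩, hc⟩ := (IsLocalization.map_eq_zero_iff (Submonoid.powers g) _ x).1 h0
  exact ⟨g ^ n, fun hmem => hg (hp.mem_of_pow_mem n hmem), hc⟩

section BlowUpAlgebra

variable {R₁ : Type u} [CommRing R₁] [Algebra R R₁] {I : Ideal R} {a : R}
  (e : R₁ ≃ₐ[R] ↥(BlowUp.affineAlgebra R I a))

include e

theorem algebraMap_mem_nonZeroDivisors : algebraMap R R₁ a ∈ nonZeroDivisors R₁ := by
  refine mem_nonZeroDivisors_iff_right.2 fun y hy => ?_
  have h := congrArg (fun z => ((e z : BlowUp.affineAlgebra R I a) : Localization.Away a)) hy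
  simp only [map_mul, AlgEquiv.commutes, map_zero, Subalgebra.coe_mul, Subalgebra.coe_algebraMap,
    ZeroMemClass.coe_zero] at h
  exact e.injective (by
    rw [map_zero]
    exact Subtype.ext ((IsLocalization.Away.algebraMap_isUnit a).mul_left_eq_zero.1 h))

theorem map_ideal_eq_span (ha : a ∈ I) : I.map (algebraMap R R₁) = Ideal.span {algebraMap R R₁ a} := by
  refine le_antisymm (Ideal.map_le_iff_le_comap.2 fun x hx => ?_) ?_
  · let q : BlowUp.affineAlgebra R I a :=
      ⟨IsLocalization.mk' (Localization.Away a) x ⟨a, Submonoid.mem_powers a⟩,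
        Algebra.subset_adjoin ⟨x, hx, rfl⟩⟩
    refine Ideal.mem_comap.2 (Ideal.mem_span_singleton'.2 ⟨e.symm q, e.injective ?_⟩)
    rw [map_mul, AlgEquiv.apply_symm_apply, AlgEquiv.commutes, AlgEquiv.commutes]
    exact Subtype.ext (IsLocalization.mk'_spec (Localization.Away a) x ⟨a, Submonoid.mem_powers a⟩)
  · exact (Ideal.span_singleton_le_iff_mem _).2 (Ideal.mem_map_of_mem _ ha)

theorem ideal_tensor_eq_span [Module.Finite R M] {k : ℕ} (ha : a ∈ I) (hI : I = Fitt.ideal R M k) :
    Fitt.ideal R₁ (R₁ ⊗[R] M) k = Ideal.span {algebraMap R R₁ a} := by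
  rw [ideal_baseChange (TensorProduct.isBaseChange R M R₁) k, ← hI]
  exact map_ideal_eq_span e ha

theorem free_strictTransform [Module.Finite R M] {k : ℕ} (ha : a ∈ I) (hI : I = Fitt.ideal R M k)
    (hlow : ∀ x ∈ Fitt.ideal R M (k - 1), 0 < k → ∃ n : ℕ, a ^ n * x = 0) :
    ∀ (p' : Ideal R₁) [p'.IsPrime], ∃ g : R₁, g ∉ p' ∧
      Module.Free (Localization.Away g) (LocalizedModule (Submonoid.powers g)
        ((R₁ ⊗[R] M) ⧸ FlatCA.powTorsion R₁ (algebraMap R R₁ a) (R₁ ⊗[R] M))) ∧
      Module.finrank (Localization.Away g) (LocalizedModule (Submonoid.powers g)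
        ((R₁ ⊗[R] M) ⧸ FlatCA.powTorsion R₁ (algebraMap R R₁ a) (R₁ ⊗[R] M))) = k := by
  refine free_quotient_powTorsion (algebraMap_mem_nonZeroDivisors e) (ideal_tensor_eq_span e ha hI) ?_
  rcases Nat.eq_zero_or_pos k with hk | hk
  · exact .inl hk
  refine .inr ?_
  rw [ideal_baseChange (TensorProduct.isBaseChange R M R₁) (k - 1), eq_bot_iff, Ideal.map_le_iff_le_comap]
  intro x hx
  obtain ⟨n, hn⟩ := hlow x hx hk
  rw [Ideal.mem_comap, Ideal.mem_bot]
  have h := congrArg (algebraMap R R₁) hn
  rw [map_mul, map_pow, map_zero, mul_comm] at h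
  exact mem_nonZeroDivisors_iff_right.1 (pow_mem (algebraMap_mem_nonZeroDivisors e) n) _ h

end BlowUpAlgebra

end Groth.Agent.FittX
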