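import Groth.Agent.NagataLib.ExtendFree
import Groth.Agent.QCoh.SubCompare
import Groth.Agent.FittX.Strict
import Groth.Agent.RGLib.Lim8Zero
import Groth.Agent.ModPairLib.Basic
import Groth.Prelude.Def_BlowUp2

/-!
# Strict transforms of modules with respect to an effective Cartier Fitting ideal
-/

universe u

set_option autoImplicit false
set_option linter.style.haveILetI false
set_option backward.isDefEq.respectTransparency false
set_option backward.isDefEq.respectTransparency.types false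

open CategoryTheory CategoryTheory.Limits AlgebraicGeometry TopologicalSpace Opposite
open Scheme (IdealSheafData)

namespace Groth.Agent.FittX

open Groth.Agent.QCoh Groth.Agent.NagataLib

variable {Y : Scheme.{u}} {E : Y.IdealSheafData} {M G : Y.Modules} {π : M ⟶ G}

/-- The kernel condition of a strict transform. -/
def IsStrictKer (E : Y.IdealSheafData) (π : M ⟶ G) : Prop :=
  Epi π ∧ ∀ (V : Y.affineOpens) (m : Γ(M, V.1)),
    π.app V.1 m = 0 ↔ BlowUp.KilledByPowerNear E M V m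

theorem killed_iff {V : Y.affineOpens} {a : Γ(Y, V.1)} (ha : E.ideal V = Ideal.span {a}) (m : Γ(M, V.1)) :
    BlowUp.KilledByPowerNear E M V m ↔ ∃ n : ℕ, a ^ n • m = 0 := by
  refine exists_congr fun n => ?_
  rw [IdealSheafData.ideal_pow, Pi.pow_apply, ha, Ideal.span_singleton_pow]
  refine ⟨fun h => h _ (Ideal.mem_span_singleton_self _), fun h c hc => ?_⟩
  obtain ⟨d, rfl⟩ := Ideal.mem_span_singleton'.1 hc
  rw [mul_smul, h, smul_zero]

theorem unit_app_eq_zero_iff (D : Y.Opens) {W : Y.Opens} (m : Γ(M, W)) :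
    ((Scheme.Modules.restrictAdjunction D.ι).unit.app M).app W m = 0 ↔
      M.presheaf.map (homOfLE (inf_le_left : W ⊓ D ≤ W)).op m = 0 := by
  have e : D.ι ''ᵁ (D.ι ⁻¹ᵁ W) = W ⊓ D := by
    rw [Scheme.Hom.image_preimage_eq_opensRange_inf, Scheme.Opens.opensRange_ι, inf_comm]
  rw [Scheme.Modules.restrictAdjunction_unit_app_app]
  constructor <;> intro h
  · exact ((map_map (homOfLE e.ge) (homOfLE (D.ι.image_preimage_le W)) m).symm.trans
      ((congrArg _ h).trans (map_zero _)))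
  · exact ((map_map (homOfLE e.le) (homOfLE (inf_le_left : W ⊓ D ≤ W)) m).symm.trans
      ((congrArg _ h).trans (map_zero _)))

theorem killed_iff_res (hM : Coh.IsQCoh M) {V : Y.affineOpens} {a : Γ(Y, V.1)}
    (ha : E.ideal V = Ideal.span {a}) (m : Γ(M, V.1)) :
    BlowUp.KilledByPowerNear E M V m ↔
      ((Scheme.Modules.restrictAdjunction (ModPair.interior E).ι).unit.app M).app V.1 m = 0 := by
  have e : V.1 ⊓ ModPair.interior E = Y.basicOpen a := ModPairLib.interior_inter_eq_basicOpen ha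
  rw [killed_iff ha, unit_app_eq_zero_iff]
  constructor
  · rintro ⟨n, hn⟩
    have h := (map_smul' (M := M) (homOfLE (inf_le_left : V.1 ⊓ ModPair.interior E ≤ V.1)) (a ^ n) m).symm.trans
      ((congrArg _ hn).trans (map_zero _))
    refine (IsUnit.smul_eq_zero ?_).1 h
    change IsUnit (ExtendFree.rf inf_le_left (a ^ n))
    rw [show ExtendFree.rf (inf_le_left : V.1 ⊓ ModPair.interior E ≤ V.1) (a ^ n) =
      ExtendFree.rf inf_le_left a ^ n from map_pow _ a n]
    exact (ExtendFree.isUnit_rf _ e.le).pow n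
  · intro h
    refine exists_pow_smul_eq_zero hM V.2 a m ?_
    exact ((map_map (homOfLE e.ge) (homOfLE (inf_le_left : V.1 ⊓ ModPair.interior E ≤ V.1)) m).symm.trans
      ((congrArg _ h).trans (map_zero _)))

/-- Affine opens with principal ideal form a basis. -/
theorem exists_chart_le (hE : BlowUp.IsEffCartierIdeal E) {W : Y.Opens} {y : Y} (hy : y ∈ W) :
    ∃ (V : Y.affineOpens) (a : Γ(Y, V.1)), y ∈ V.1 ∧ V.1 ≤ W ∧ E.ideal V = Ideal.span {a} := by
  obtain ⟨U, hyU, f, -, hf⟩ := hE y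
  obtain ⟨r, hrW, hyr⟩ := U.2.exists_basicOpen_le ⟨y, hy⟩ hyU
  refine ⟨⟨Y.basicOpen r, U.2.basicOpen r⟩, Y.presheaf.map (homOfLE (Y.basicOpen_le r)).op f, hyr, hrW, ?_⟩
  rw [← E.map_ideal (show (⟨Y.basicOpen r, U.2.basicOpen r⟩ : Y.affineOpens) ≤ U from Y.basicOpen_le r),
    hf, Ideal.map_span, Set.image_singleton]
  rfl

theorem hom_eq_zero_of_charts (hE : BlowUp.IsEffCartierIdeal E) {A B : Y.Modules} (f : A ⟶ B)
    (h : ∀ (V : Y.affineOpens) (a : Γ(Y, V.1)), E.ideal V = Ideal.span {a} → ∀ x, f.app V.1 x = 0) :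
    f = 0 := by
  refine Scheme.Modules.hom_ext _ _ fun W => ?_
  ext x
  refine eq_zero_of_locally W _ fun q hq => ?_
  obtain ⟨V, a, hqV, hVW, ha⟩ := exists_chart_le hE hq
  exact ⟨V.1, homOfLE hVW, hqV, (map_app_comm f (homOfLE hVW) x).symm.trans (h V a ha _)⟩

/-- A strict transform is quasi-coherent. -/
theorem IsStrictKer.isQCoh (h : IsStrictKer E π) (hE : BlowUp.IsEffCartierIdeal E) (hM : Coh.IsQCoh M) :
    Coh.IsQCoh G := by
  haveI := h.1
  haveI := ModPairLib.isAffineHom_interior (ModPairLib.isLocPrincipal_of_isEffCartier hE)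
  let u := (Scheme.Modules.restrictAdjunction (ModPair.interior E).ι).unit.app M
  have hP : Coh.IsQCoh ((Scheme.Modules.pushforward (ModPair.interior E).ι).obj
      (M.restrict (ModPair.interior E).ι)) :=
    isQCoh_pushforward _ (isQCoh_restrict _ hM)
  have hK : Coh.IsQCoh (kernel u) := isQCoh_kernel hM hP u
  have h1 : kernel.ι u ≫ π = 0 := hom_eq_zero_of_charts hE _ fun V a ha x =>
    (h.2 V _).2 ((killed_iff_res hM ha _).2 (congr(($(kernel.condition u)).app V.1 x) :))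
  have h2 : kernel.ι π ≫ u = 0 := hom_eq_zero_of_charts hE _ fun V a ha x =>
    (killed_iff_res hM ha _).1 ((h.2 V _).1 (congr(($(kernel.condition π)).app V.1 x) :))
  let e : cokernel (kernel.ι u) ≅ G :=
    { hom := cokernel.desc _ π h1
      inv := Abelian.epiDesc π (cokernel.π (kernel.ι u)) (by
        rw [← kernel.lift_ι u (kernel.ι π) h2, Category.assoc, cokernel.condition, comp_zero])
      hom_inv_id := by
        rw [← cancel_epi (cokernel.π (kernel.ι u))]
        simp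
      inv_hom_id := by
        rw [← cancel_epi π]
        simp }
  exact (SheafOfModules.isQuasicoherent Y.ringCatSheaf).prop_of_iso e (isQCoh_cokernel hK hM _)

/-- The chart of a strict transform. -/
theorem IsStrictKer.exists_sections (h : IsStrictKer E π) (hE : BlowUp.IsEffCartierIdeal E)
    (hM : Coh.IsQCoh M) {V : Y.affineOpens} {a : Γ(Y, V.1)} (ha : E.ideal V = Ideal.span {a}) :
    Nonempty ((Γ(M, V.1) ⧸ FlatCA.powTorsion Γ(Y, V.1) a Γ(M, V.1)) ≃ₗ[Γ(Y, V.1)] Γ(G, V.1)) := by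
  haveI := h.1
  have hs : Function.Surjective (appLin π V.1) :=
    app_surjective_of_epi hM (h.isQCoh hE hM) π V.2
  exact ⟨(Submodule.quotEquivOfEq _ _ (by
    ext m
    rw [mem_powTorsion, LinearMap.mem_ker]
    exact ((h.2 V m).trans (killed_iff ha m)).symm)).trans ((appLin π V.1).quotKerEquivOfSurjective hs)⟩

theorem ideal_eq_of_equiv {R : Type u} [CommRing R] {P Q : Type u} [AddCommGroup P] [Module R P]
    [AddCommGroup Q] [Module R Q] [Module.Finite R P] (e : P ≃ₗ[R] Q) (k : ℕ) :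
    Fitt.ideal R P k = Fitt.ideal R Q k :=
  haveI := Module.Finite.equiv e
  (ideal_le_of_surjective e.toLinearMap e.surjective k).antisymm
    (ideal_le_of_surjective e.symm.toLinearMap e.symm.surjective k)

theorem sheafIdeal_eq_of_iso {A B : Y.Modules} (e : A ≅ B) (hA : Coh.IsQCoh A) (hA' : CohB1.IsFT A) (k : ℕ) :
    Fitt.sheafIdeal A k = Fitt.sheafIdeal B k := by
  refine congrArg Scheme.IdealSheafData.ofIdeals (funext fun U => ?_)
  haveI := finite_of_isFT hA hA' U.2
  exact ideal_eq_of_equiv (LinearEquiv.ofBijective (appLin e.hom U.1)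
    ⟨app_injective e.hom U.1, fun y => ⟨e.inv.app U.1 y, (congr(($(e.inv_hom_id)).app U.1 y) :)⟩⟩) k

/-- A Fitting ideal below the rank vanishes where the module is locally free. -/
theorem van_of_free (hM : Coh.IsQCoh M) (hft : CohB1.IsFT M) (D : Y.Opens) {k : ℕ}
    (hfree : FlatMod.IsFinLocFreeOfRank k (M.restrict D.ι)) {j : ℕ} (hj : j < k) :
    ExtendFree.Van (Fitt.sheafIdeal M j) D := by
  have hP := isQCoh_pullback D.ι hM
  have hP' := isFT_pullback D.ι hM hft
  let e := ((Scheme.Modules.restrictFunctorIsoPullback D.ι).app M).symm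
  have hR : CohB1.IsFT (M.restrict D.ι) :=
    haveI : Epi e.hom := inferInstance
    Groth.Agent.RGLib.Lim8.isFT_of_epi e.hom hP (isQCoh_restrict D.ι hM) hP'
  rw [← ExtendFree.comap_eq_bot_iff, sheafIdeal_comap D.ι hM hft, sheafIdeal_eq_of_iso e hP hP']
  exact ((isFinLocFreeOfRank_iff (isQCoh_restrict D.ι hM) hR k).1 hfree).1 j hj

section Fitting

variable (hM : Coh.IsQCoh M) (hft : CohB1.IsFT M) (h : IsStrictKer E π)
  (hE : BlowUp.IsEffCartierIdeal E) {k : ℕ} (hk : Fitt.sheafIdeal M k = E)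

include hM hft h hE hk

theorem exists_fitting_chart (y : Y) : ∃ (V : Y.affineOpens) (a : Γ(Y, V.1)),
    y ∈ V.1 ∧ a ∈ nonZeroDivisors Γ(Y, V.1) ∧ E.ideal V = Ideal.span {a} ∧
      Fitt.ideal Γ(Y, V.1) Γ(M, V.1) k = Ideal.span {a} ∧
      Nonempty ((Γ(M, V.1) ⧸ FlatCA.powTorsion Γ(Y, V.1) a Γ(M, V.1)) ≃ₗ[Γ(Y, V.1)] Γ(G, V.1)) := by
  obtain ⟨V, hy, a, ha0, ha⟩ := hE y
  exact ⟨V, a, hy, ha0, ha, by rw [← sheafIdeal_ideal hM hft, hk, ha], h.exists_sections hE hM ha⟩

theorem sheafIdeal_strict_eq_top : Fitt.sheafIdeal G k = ⊤ := by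
  haveI := h.1
  have hG := h.isQCoh hE hM
  refine eq_of_cover fun y => ?_
  obtain ⟨V, a, hy, -, -, hf, ⟨e⟩⟩ := exists_fitting_chart hM hft h hE hk y
  haveI := finite_of_isFT hM hft V.2
  refine ⟨V, hy, ?_⟩
  rw [sheafIdeal_ideal hG (Groth.Agent.RGLib.Lim8.isFT_of_epi π hM hG hft), ← ideal_eq_of_equiv e,
    ideal_quotient_powTorsion hf, Scheme.IdealSheafData.ideal_top]
  rfl

theorem generated (y : Y) :
    ∃ U : Y.Opens, y ∈ U ∧ ∃ q : FlatMod.freeMod (↑U) k ⟶ G.restrict U.ι, Epi q := by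
  haveI := h.1
  have hG := h.isQCoh hE hM
  refine (generated_iff hG (Groth.Agent.RGLib.Lim8.isFT_of_epi π hM hG hft) y k).2 ?_
  rw [sheafIdeal_strict_eq_top hM hft h hE hk]
  exact id

omit h hk in
theorem ideal_low_eq_bot {k' : ℕ}
    (hvan : ExtendFree.Van (Fitt.sheafIdeal M k') (ModPair.interior E)) (V : Y.affineOpens) :
    Fitt.ideal Γ(Y, V.1) Γ(M, V.1) k' = ⊥ := by
  haveI := ModPairLib.isSchemeTheoreticallyDominant_interior hE
  haveI := ModPairLib.isAffineHom_interior (ModPairLib.isLocPrincipal_of_isEffCartier hE)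
  rw [eq_bot_iff]
  intro x hx
  rw [← sheafIdeal_ideal hM hft] at hx
  exact (Ideal.mem_bot).2 (ExtendFree.eq_zero_of_dense _ x (hvan V x hx))

theorem isFinLocFreeOfRank_strict
    (hvan : ∀ j < k, ExtendFree.Van (Fitt.sheafIdeal M j) (ModPair.interior E)) :
    FlatMod.IsFinLocFreeOfRank k G := by
  haveI := h.1
  have hG := h.isQCoh hE hM
  have hGft := Groth.Agent.RGLib.Lim8.isFT_of_epi π hM hG hft
  have key : ∀ y : Y, ∃ V : Y.affineOpens, y ∈ V.1 ∧
      (∀ j, j < k → Fitt.ideal Γ(Y, V.1) Γ(G, V.1) j = ⊥) ∧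
        (∀ j, k ≤ j → Fitt.ideal Γ(Y, V.1) Γ(G, V.1) j = ⊤) := fun y => by
    obtain ⟨V, a, hy, ha0, -, hf, ⟨e⟩⟩ := exists_fitting_chart hM hft h hE hk y
    haveI := finite_of_isFT hM hft V.2
    have hlow : k = 0 ∨ Fitt.ideal Γ(Y, V.1) Γ(M, V.1) (k - 1) = ⊥ := by
      rcases Nat.eq_zero_or_pos k with hk0 | hk0
      · exact .inl hk0
      · exact .inr (ideal_low_eq_bot hM hft hE (hvan _ (by omega)) V)
    have h' := (locallyFree_iff k).1 (free_quotient_powTorsion ha0 hf hlow)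
    exact ⟨V, hy, fun j hj => by rw [← ideal_eq_of_equiv e, h'.1 j hj],
      fun j hj => by rw [← ideal_eq_of_equiv e, h'.2 j hj]⟩
  refine (isFinLocFreeOfRank_iff hG hGft k).2 ⟨fun j hj => eq_of_cover fun y => ?_,
    fun j hj => eq_of_cover fun y => ?_⟩
  · obtain ⟨V, hy, hV⟩ := key y
    exact ⟨V, hy, by rw [sheafIdeal_ideal hG hGft, hV.1 j hj, Scheme.IdealSheafData.ideal_bot]; rfl⟩
  · obtain ⟨V, hy, hV⟩ := key y
    exact ⟨V, hy, by rw [sheafIdeal_ideal hG hGft, hV.2 j hj, Scheme.IdealSheafData.ideal_top]; rfl⟩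

theorem isFP_kernel (hfp : CohB1.IsFP M)
    (hvan : ∀ j < k, ExtendFree.Van (Fitt.sheafIdeal M j) (ModPair.interior E)) :
    CohB1.IsFP (kernel π) := by
  haveI := h.1
  have hG := h.isQCoh hE hM
  choose V a hy ha0 haE hf _ using exists_fitting_chart hM hft h hE hk
  refine isFP_of_finitePresentation (isQCoh_kernel hM hG π) (fun y => (V y).1)
    (IsOpenCover.mk (eq_top_iff.2 fun y _ => Opens.mem_iSup.2 ⟨y, hy y⟩)) (fun y => (V y).2) fun y => ?_
  haveI := finitePresentation_of_isFP hfp (V y).2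
  have hlow : k = 0 ∨ Fitt.ideal Γ(Y, (V y).1) Γ(M, (V y).1) (k - 1) = ⊥ := by
    rcases Nat.eq_zero_or_pos k with hk0 | hk0
    · exact .inl hk0
    · exact .inr (ideal_low_eq_bot hM hft hE (hvan _ (by omega)) _)
  obtain ⟨-, htor, -, -, ⟨d⟩⟩ := main (ha0 y) (hf y) hlow
  set T := LinearMap.ker (a y • (LinearMap.id : Γ(M, (V y).1) →ₗ[Γ(Y, (V y).1)] Γ(M, (V y).1))) with hT
  let p := LinearMap.snd _ _ _ ∘ₗ d.toLinearMap
  haveI : Module.FinitePresentation Γ(Y, (V y).1) T :=
    Module.finitePresentation_of_surjective p (fun t => ⟨d.symm (0, t), by simp [p]⟩) (by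
      have : LinearMap.ker p = Submodule.map (d.symm.toLinearMap ∘ₗ LinearMap.inl _ _ _) ⊤ := by
        ext x
        simp only [LinearMap.mem_ker, p, LinearMap.comp_apply, LinearEquiv.coe_coe, LinearMap.snd_apply,
          Submodule.mem_map, Submodule.mem_top, true_and, LinearMap.inl_apply]
        exact ⟨fun hx => ⟨(d x).1, by rw [← hx, Prod.mk.eta, d.symm_apply_apply]⟩,
          fun ⟨z, hz⟩ => by rw [← hz, d.apply_symm_apply]⟩
      rw [this]
      exact Module.Finite.fg_top.map _)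
  have hTker : ∀ m, π.app (V y).1 m = 0 ↔ m ∈ T := fun m => by
    rw [h.2, killed_iff (haE y), htor, hT, LinearMap.mem_ker, LinearMap.smul_apply, LinearMap.id_apply]
  let ι' : Γ(kernel π, (V y).1) →ₗ[Γ(Y, (V y).1)] T := (appLin (kernel.ι π) (V y).1).codRestrict T fun x =>
    (hTker _).1 (congr(($(kernel.condition π)).app (V y).1 x) :)
  refine Module.FinitePresentation.of_equiv (LinearEquiv.ofBijective ι' ⟨fun x x' hxx' =>
    app_injective (kernel.ι π) _ (congrArg Subtype.val hxx'), fun t => ?_⟩).symm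
  obtain ⟨x, hx⟩ := exists_app_f_eq (S := ShortComplex.mk (kernel.ι π) π (kernel.condition π))
    (.mk' (ShortComplex.exact_of_f_is_kernel _ (kernelIsKernel π)) inferInstance h.1) (V y).1 t.1
      ((hTker _).2 t.2)
  exact ⟨x, Subtype.ext hx⟩

omit hft hk in
/-- The kernel vanishes away from the divisor. -/
theorem isZero_kernel_restrict (D : Y.Opens) (hD : D ≤ ModPair.interior E) :
    IsZero ((kernel π).restrict D.ι) := by
  haveI := h.1
  rw [IsZero.iff_id_eq_zero]
  refine Scheme.Modules.hom_ext _ _ fun W => ?_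
  ext x
  refine app_injective (kernel.ι π) (D.ι ''ᵁ W) ?_
  rw [show (((0 : (kernel π).restrict D.ι ⟶ (kernel π).restrict D.ι)).app W) x = 0 from rfl, map_zero]
  refine eq_zero_of_locally (D.ι ''ᵁ W) _ fun q hq => ?_
  obtain ⟨V, a, hqV, hVW, ha⟩ := exists_chart_le hE hq
  refine ⟨V.1, homOfLE hVW, hqV, ?_⟩
  rw [← map_app_comm]
  have h0 := (killed_iff_res hM ha _).1 ((h.2 V _).1
    (congr(($(kernel.condition π)).app V.1 ((kernel π).presheaf.map (homOfLE hVW).op x)) :))
  rw [unit_app_eq_zero_iff] at h0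
  have hVD : V.1 ≤ V.1 ⊓ ModPair.interior E :=
    le_inf le_rfl (hVW.trans ((D.ι.image_le_opensRange W).trans (D.opensRange_ι.le.trans hD)))
  have h1 := (congrArg (M.presheaf.map (homOfLE hVD).op) h0).trans (map_zero _)
  rw [map_map] at h1
  refine Eq.trans ?_ h1
  exact ((ConcreteCategory.congr_hom (M.presheaf.map_id (op V.1)) _).symm.trans rfl)

end Fitting

end Groth.Agent.FittX

namespace Groth.Agent.FittX

open Groth.Agent.QCoh Groth.Agent.NagataLib

section BlowUp

variable {X X' : Scheme.{u}} {F : X.Modules} {k : ℕ} {b : X' ⟶ X} {G : X'.Modules}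
  {π : (Scheme.Modules.pullback b).obj F ⟶ G}

theorem isStrictKer (hG : BlowUp.IsStrictTransform b (Fitt.sheafIdeal F k) F G π) :
    IsStrictKer ((Fitt.sheafIdeal F k).comap b) π := ⟨hG.1, hG.2⟩

/-- The low Fitting ideals of the pullback vanish off the divisor. -/
theorem van_pullback (hF : Coh.IsQCoh F) (hft : CohB1.IsFT F) (b : X' ⟶ X) (D : X.Opens)
    (hfree : FlatMod.IsFinLocFreeOfRank k (F.restrict D.ι)) {j : ℕ} (hj : j < k) :
    ExtendFree.Van (Fitt.sheafIdeal ((Scheme.Modules.pullback b).obj F) j) (b ⁻¹ᵁ D) := by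
  rw [← sheafIdeal_comap b hF hft]
  exact (van_of_free hF hft D hfree hj).comap b

theorem strict_generated (hF : Coh.IsQCoh F) (hft : CohB1.IsFT F)
    (hb : BlowUp.IsBlowUp b (Fitt.sheafIdeal F k))
    (hG : BlowUp.IsStrictTransform b (Fitt.sheafIdeal F k) F G π) (y : X') :
    ∃ U : X'.Opens, y ∈ U ∧ ∃ q : FlatMod.freeMod (↑U) k ⟶ G.restrict U.ι, Epi q :=
  generated (isQCoh_pullback b hF) (isFT_pullback b hF hft) (isStrictKer hG) hb.1
    (sheafIdeal_comap b hF hft k).symm y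

set_option maxHeartbeats 1000000 in
theorem strict_isFinLocFreeOfRank (hF : Coh.IsQCoh F) (hft : CohB1.IsFT F)
    (hfree : FlatMod.IsFinLocFreeOfRank k (F.restrict (Scheme.Opens.ι (Fitt.sheafIdeal F k).support.compl)))
    (hb : BlowUp.IsBlowUp b (Fitt.sheafIdeal F k))
    (hG : BlowUp.IsStrictTransform b (Fitt.sheafIdeal F k) F G π) :
    FlatMod.IsFinLocFreeOfRank k G := by
  refine isFinLocFreeOfRank_strict (isQCoh_pullback b hF) (isFT_pullback b hF hft) (isStrictKer hG) hb.1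
    (sheafIdeal_comap b hF hft k).symm fun j hj => ?_
  rw [← ModPairLib.preimage_interior (Fitt.sheafIdeal F k) b]
  exact van_pullback hF hft b _ hfree hj

theorem sheafIdeal_eq_bot_of_dense (hF : Coh.IsQCoh F) (hft : CohB1.IsFT F) (U : X.Opens)
    (hU : CInt.IsSchematicallyDense U) (hfree : FlatMod.IsFinLocFreeOfRank k (F.restrict U.ι))
    {j : ℕ} (hj : j < k) : Fitt.sheafIdeal F j = ⊥ := by
  refine eq_of_cover fun x => ?_
  obtain ⟨V, hV, hxV, -⟩ := exists_isAffineOpen_mem_and_subset (x := x) (U := (⊤ : X.Opens)) trivial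
  refine ⟨⟨V, hV⟩, hxV, ?_⟩
  rw [Scheme.IdealSheafData.ideal_bot, Pi.bot_apply, eq_bot_iff]
  intro a ha
  exact Ideal.mem_bot.2 (hU V ((van_of_free hF hft U hfree hj ⟨V, hV⟩ a ha).trans (map_zero _).symm))

theorem disjoint_support_of_free (hF : Coh.IsQCoh F) (hft : CohB1.IsFT F) (U : X.Opens)
    (hfree : FlatMod.IsFinLocFreeOfRank k (F.restrict U.ι)) :
    Disjoint ((Fitt.sheafIdeal F k).support : Set X) (U : Set X) := by
  rw [Set.disjoint_right]
  intro x hxU
  refine (generated_iff hF hft x k).1 ?_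
  obtain ⟨W, hxW, ⟨e⟩⟩ := hfree ⟨x, hxU⟩
  refine ⟨U.ι ''ᵁ W, ⟨⟨x, hxU⟩, hxW, rfl⟩, ?_⟩
  let j := (U.ι.isoImage W).inv
  let e' : (F.restrict (U.ι ''ᵁ W).ι) ≅ FlatMod.freeMod _ k :=
    (Scheme.Modules.restrictFunctorCongr (show (U.ι ''ᵁ W).ι = (j ≫ W.ι) ≫ U.ι by
      simp [j])).app F ≪≫ (restrictRestrict F _ _).symm ≪≫ (restrictRestrict _ _ _).symm ≪≫
      (Scheme.Modules.restrictFunctor j).mapIso e ≪≫ freeModRestrict j k
  exact ⟨e'.inv, inferInstance⟩

theorem strict_admissible (hfp : CohB1.IsFP F) (U : X.Opens)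
    (hfree : FlatMod.IsFinLocFreeOfRank k (F.restrict U.ι)) :
    BlowUp.IsAdmissibleFor U (Fitt.sheafIdeal F k) :=
  ⟨isFiniteTypeIdeal hfp k, disjoint_support_of_free (isQCoh_of_isFP hfp) (isFT_of_isFP hfp) U hfree⟩

theorem strict_dense (hfp : CohB1.IsFP F) (U : X.Opens) (hU : CInt.IsSchematicallyDense U)
    (hfree : FlatMod.IsFinLocFreeOfRank k (F.restrict U.ι))
    (hb : BlowUp.IsBlowUp b (Fitt.sheafIdeal F k))
    (hG : BlowUp.IsStrictTransform b (Fitt.sheafIdeal F k) F G π) :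
    FlatMod.IsFinLocFreeOfRank k G ∧ CohB1.IsFP (kernel π) ∧
      IsZero ((kernel π).restrict (b ⁻¹ᵁ U).ι) := by
  have hF := isQCoh_of_isFP hfp
  have hft := isFT_of_isFP hfp
  have hM := isQCoh_pullback b hF
  have hMft := isFT_pullback b hF hft
  have hk := (sheafIdeal_comap b hF hft k).symm
  have hvan : ∀ j < k, ExtendFree.Van (Fitt.sheafIdeal ((Scheme.Modules.pullback b).obj F) j)
      (ModPair.interior ((Fitt.sheafIdeal F k).comap b)) := fun j hj W a ha => by
    rw [← sheafIdeal_comap b hF hft, sheafIdeal_eq_bot_of_dense hF hft U hU hfree hj,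
      Scheme.IdealSheafData.comap_bot] at ha
    obtain rfl : a = 0 := by simpa using ha
    exact map_zero _
  refine ⟨isFinLocFreeOfRank_strict hM hMft (isStrictKer hG) hb.1 hk hvan,
    isFP_kernel hM hMft (isStrictKer hG) hb.1 hk (Groth.Agent.RGLib.Lim8.isFP_pullback b hF hfp) hvan,
    isZero_kernel_restrict hM (isStrictKer hG) hb.1 _ ?_⟩
  rw [← ModPairLib.preimage_interior (Fitt.sheafIdeal F k) b]
  intro x hx hxs
  exact Set.disjoint_left.1 (disjoint_support_of_free hF hft U hfree) hxs hx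

end BlowUp

end Groth.Agent.FittX
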