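import Groth.Agent.FittX.Ideal
import Mathlib.LinearAlgebra.Dual.Lemmas
import Mathlib.LinearAlgebra.StdBasis
import Mathlib.LinearAlgebra.FreeModule.StrongRankCondition

/-!
# Minors of the range of a map and of the range of its transpose
-/

universe u v w

open Module

namespace Groth.Agent.FittX

variable {R : Type u} [CommRing R] {F : Type v} [AddCommGroup F] [Module R F]
  {G : Type w} [AddCommGroup G] [Module R G]

theorem minor_transpose (σ : F →ₗ[R] G) {N : ℕ} (ψ : Fin N → Dual R G) (y : Fin N → F) :
    minor (fun a => Dual.eval R F (y a)) (fun b => σ.dualMap (ψ b)) = minor ψ (fun b => σ (y b)) := by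
  rw [minor, minor, ← Matrix.det_transpose]
  rfl

theorem minors_range_dualMap [IsReflexive R F] (σ : F →ₗ[R] G) (N : ℕ) :
    minors N (LinearMap.range σ.dualMap) = minors N (LinearMap.range σ) := by
  apply le_antisymm
  · rw [minors, Ideal.span_le]
    rintro d ⟨φ, z, hz, rfl⟩
    choose ψ hψ using hz
    choose y hy using fun a => (bijective_dual_eval R F).2 (φ a)
    have h : minor φ z = minor ψ (fun b => σ (y b)) := by
      rw [← minor_transpose, funext hy, funext hψ]
    rw [SetLike.mem_coe, h]
    exact minor_mem _ fun b => LinearMap.mem_range_self σ (y b)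
  · rw [minors, Ideal.span_le]
    rintro d ⟨φ, z, hz, rfl⟩
    choose y hy using hz
    have h : minor φ z = minor (fun a => Dual.eval R F (y a)) (fun b => σ.dualMap (φ b)) := by
      rw [minor_transpose, funext hy]
    rw [SetLike.mem_coe, h]
    exact minor_mem _ fun b => LinearMap.mem_range_self σ.dualMap (φ b)

theorem minors_range_eq_bot {m N : ℕ} (σ : (Fin m → R) →ₗ[R] G) (h : m < N) :
    minors N (LinearMap.range σ) = ⊥ := by
  classical
  have hs : LinearMap.range σ = Submodule.span R (σ '' Set.range fun i => Pi.single (M := fun _ => R) i (1 : R)) := by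
    rw [Submodule.span_image, show Submodule.span R (Set.range fun i => Pi.single (M := fun _ => R) i (1 : R)) = ⊤ by
      simpa [Pi.basisFun] using (Pi.basisFun R (Fin m)).span_eq, Submodule.map_top]
  rw [hs, eq_bot_iff]
  refine minors_le_of_span (D := Set.univ) Submodule.span_univ fun φ _ z hz => ?_
  choose w hw hwz using hz
  choose i hi using hw
  obtain ⟨b, b', hne, hbb⟩ := Fintype.exists_ne_map_eq_of_card_lt i (by simpa using h)
  rw [minor, Matrix.det_zero_of_row_eq hne (funext fun a => ?_)]
  · exact Ideal.zero_mem _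
  · simp [← hwz, ← hi, hbb]

theorem ideal_quotient_eq_minors {m : ℕ} (K : Submodule R (Fin m → R)) (k : ℕ) :
    Fitt.ideal R ((Fin m → R) ⧸ K) k = minors (m - k) K := by
  classical
  let x : Fin m → (Fin m → R) ⧸ K := fun i => Submodule.Quotient.mk (Pi.single i 1)
  have hx : Fintype.linearCombination R x = K.mkQ :=
    LinearMap.pi_ext' fun i => LinearMap.ext_ring <| by simp [x, Fintype.linearCombination_apply_single]
  rw [ideal_eq_minors x ?_ k]
  · rw [rel, hx, Submodule.ker_mkQ]
  · rw [← Fintype.range_linearCombination, hx, Submodule.range_mkQ]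

theorem ideal_congr' {M : Type v} [AddCommGroup M] [Module R M] {M' : Type w} [AddCommGroup M'] [Module R M']
    [Module.Finite R M] (e : M ≃ₗ[R] M') (k : ℕ) : Fitt.ideal R M k = Fitt.ideal R M' k := ideal_congr e k

end Groth.Agent.FittX
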